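import Cfsg.Agent.H482.LF.StSeq

/-!
# S5917, Steinberg branch: the dimensions of the fixed spaces (helper482)
-/

set_option autoImplicit false

namespace Cfsg.Agent.H482.LF

open Matrix Cfsg.Agent.H691.L34

variable {F : Type} [Field F]

theorem BB_le_PP : BB F ≤ PP F := fun _ h => ⟨h.1, h.2.1⟩

theorem BB_le_LL : BB F ≤ LL F := fun _ h => ⟨h.2.1, h.2.2⟩

theorem two0' [Fintype F] (hF : Fintype.card F = 4) : (2 : F) = 0 := by
  have h : ((Fintype.card F : ℕ) : F) = 0 := Nat.cast_card_eq_zero F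
  rw [hF] at h
  have h2 : (2 : F) * 2 = 0 := by
    have : ((4 : ℕ) : F) = 2 * 2 := by norm_num
    rw [← this]
    exact h
  exact mul_self_eq_zero.1 h2

theorem neg1 (h2 : (2 : F) = 0) : (-1 : F) = 1 := by
  have : (1 : F) + 1 = 0 := by rw [one_add_one_eq_two, h2]
  exact neg_eq_of_add_eq_zero_left this

/-- `x₂₃(a) n₂` -/
def kP (h2 : (2 : F) = 0) (a : F) : G3 F := ⟨!![1, 0, 0; 0, a, 1; 0, 1, 0], by
  rw [det_fin_three]
  simp [neg1 h2]⟩

def kPi (h2 : (2 : F) = 0) (a : F) : G3 F := ⟨!![1, 0, 0; 0, 0, 1; 0, 1, -a], by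
  rw [det_fin_three]
  simp [neg1 h2]⟩

def kL (h2 : (2 : F) = 0) (a : F) : G3 F := ⟨!![a, 1, 0; 1, 0, 0; 0, 0, 1], by
  rw [det_fin_three]
  simp [neg1 h2]⟩

def kLi (h2 : (2 : F) = 0) (a : F) : G3 F := ⟨!![0, 1, 0; 1, -a, 0; 0, 0, 1], by
  rw [det_fin_three]
  simp [neg1 h2]⟩

theorem kP_inv (h2 : (2 : F) = 0) (a : F) : (kP h2 a)⁻¹ = kPi h2 a := by
  apply inv_eq_of_mul_eq_one_right
  apply Subtype.ext
  show (!![1, 0, 0; 0, a, 1; 0, 1, 0] : M3 F) * !![1, 0, 0; 0, 0, 1; 0, 1, -a] = 1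
  ext i j
  fin_cases i <;> fin_cases j <;> simp [Matrix.mul_apply, Fin.sum_univ_three]

theorem kL_inv (h2 : (2 : F) = 0) (a : F) : (kL h2 a)⁻¹ = kLi h2 a := by
  apply inv_eq_of_mul_eq_one_right
  apply Subtype.ext
  show (!![a, 1, 0; 1, 0, 0; 0, 0, 1] : M3 F) * !![0, 1, 0; 1, -a, 0; 0, 0, 1] = 1
  ext i j
  fin_cases i <;> fin_cases j <;> simp [Matrix.mul_apply, Fin.sum_univ_three]

def kkP (h2 : (2 : F) = 0) : Option F → G3 F
  | none => 1
  | some a => kP h2 a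

def kkL (h2 : (2 : F) = 0) : Option F → G3 F
  | none => 1
  | some a => kL h2 a

theorem kkP_mem (h2 : (2 : F) = 0) (i : Option F) : kkP h2 i ∈ PP F := by
  cases i with
  | none => exact (PP F).one_mem
  | some a => exact ⟨rfl, rfl⟩

theorem kkL_mem (h2 : (2 : F) = 0) (i : Option F) : kkL h2 i ∈ LL F := by
  cases i with
  | none => exact (LL F).one_mem
  | some a => exact ⟨rfl, rfl⟩

theorem kkP_inj (h2 : (2 : F) = 0) (i j : Option F) (h : (kkP h2 i)⁻¹ * kkP h2 j ∈ BB F) : i = j := by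
  cases i with
  | none =>
    cases j with
    | none => rfl
    | some b =>
      exfalso
      have h' : kP h2 b ∈ BB F := by
        have e : (kkP h2 none)⁻¹ * kkP h2 (some b) = kP h2 b := by
          show (1 : G3 F)⁻¹ * kP h2 b = kP h2 b
          rw [inv_one, one_mul]
        rwa [e] at h
      exact one_ne_zero (h'.2.2 : (1 : F) = 0)
  | some a =>
    have e : (kkP h2 (some a))⁻¹ = kPi h2 a := kP_inv h2 a
    rw [e] at h
    cases j with
    | none =>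
      exfalso
      have h' : kPi h2 a ∈ BB F := by
        have e : kPi h2 a * kkP h2 none = kPi h2 a := mul_one _
        rwa [e] at h
      exact one_ne_zero (h'.2.2 : (1 : F) = 0)
    | some b =>
      have h' := h.2.2
      rw [mul3] at h'
      have h'' : (0 : F) * 0 + 1 * b + -a * 1 = 0 := h'
      have : a = b := by linear_combination -h''
      rw [this]

theorem kkL_inj (h2 : (2 : F) = 0) (i j : Option F) (h : (kkL h2 i)⁻¹ * kkL h2 j ∈ BB F) : i = j := by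
  cases i with
  | none =>
    cases j with
    | none => rfl
    | some b =>
      exfalso
      have h' : kL h2 b ∈ BB F := by
        have e : (kkL h2 none)⁻¹ * kkL h2 (some b) = kL h2 b := by
          show (1 : G3 F)⁻¹ * kL h2 b = kL h2 b
          rw [inv_one, one_mul]
        rwa [e] at h
      exact one_ne_zero (h'.1 : (1 : F) = 0)
  | some a =>
    have e : (kkL h2 (some a))⁻¹ = kLi h2 a := kL_inv h2 a
    rw [e] at h
    cases j with
    | none =>
      exfalso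
      have h' : kLi h2 a ∈ BB F := by
        have e : kLi h2 a * kkL h2 none = kLi h2 a := mul_one _
        rwa [e] at h
      exact one_ne_zero (h'.1 : (1 : F) = 0)
    | some b =>
      have h' := h.1
      rw [mul3] at h'
      have h'' : (1 : F) * b + -a * 1 + 0 * 0 = 0 := h'
      have : a = b := by linear_combination -h''
      rw [this]

theorem kkP_surj (h2 : (2 : F) = 0) (q : G3 F) (hq : q ∈ PP F) : ∃ i, (kkP h2 i)⁻¹ * q ∈ BB F := by
  obtain ⟨h1, h3⟩ := hq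
  by_cases h : q.1 2 1 = 0
  · refine ⟨none, ?_⟩
    have e : (kkP h2 none)⁻¹ * q = q := by
      show (1 : G3 F)⁻¹ * q = q
      rw [inv_one, one_mul]
    rw [e]
    exact ⟨h1, h3, h⟩
  · refine ⟨some (q.1 1 1 / q.1 2 1), ?_⟩
    have e : (kkP h2 (some (q.1 1 1 / q.1 2 1)))⁻¹ = kPi h2 (q.1 1 1 / q.1 2 1) := kP_inv h2 _
    rw [e]
    refine ⟨?_, ?_, ?_⟩
    · rw [mul3]
      show (0 : F) * q.1 0 0 + 0 * q.1 1 0 + 1 * q.1 2 0 = 0
      rw [h3]; ring
    · rw [mul3]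
      show (0 : F) * q.1 0 0 + 1 * q.1 1 0 + -(q.1 1 1 / q.1 2 1) * q.1 2 0 = 0
      rw [h1, h3]; ring
    · rw [mul3]
      show (0 : F) * q.1 0 1 + 1 * q.1 1 1 + -(q.1 1 1 / q.1 2 1) * q.1 2 1 = 0
      field_simp
      ring

theorem kkL_surj (h2 : (2 : F) = 0) (q : G3 F) (hq : q ∈ LL F) : ∃ i, (kkL h2 i)⁻¹ * q ∈ BB F := by
  obtain ⟨h1, h3⟩ := hq
  by_cases h : q.1 1 0 = 0
  · refine ⟨none, ?_⟩
    have e : (kkL h2 none)⁻¹ * q = q := by
      show (1 : G3 F)⁻¹ * q = q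
      rw [inv_one, one_mul]
    rw [e]
    exact ⟨h, h1, h3⟩
  · refine ⟨some (q.1 0 0 / q.1 1 0), ?_⟩
    have e : (kkL h2 (some (q.1 0 0 / q.1 1 0)))⁻¹ = kLi h2 (q.1 0 0 / q.1 1 0) := kL_inv h2 _
    rw [e]
    refine ⟨?_, ?_, ?_⟩
    · rw [mul3]
      show (1 : F) * q.1 0 0 + -(q.1 0 0 / q.1 1 0) * q.1 1 0 + 0 * q.1 2 0 = 0
      field_simp
      ring
    · rw [mul3]
      show (0 : F) * q.1 0 0 + 0 * q.1 1 0 + 1 * q.1 2 0 = 0
      rw [h1]; ring
    · rw [mul3]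
      show (0 : F) * q.1 0 1 + 0 * q.1 1 1 + 1 * q.1 2 1 = 0
      rw [h3]; ring

def nP (c2 : (2 : F) = 0) : G3 F := ⟨!![1,0,0;0,0,1;0,1,0], by rw [det_fin_three]; simp [neg1 c2]⟩
def xP (a : F) : G3 F := ⟨!![1,0,0;0,1,a;0,0,1], by rw [det_fin_three]; simp⟩
def nL (c2 : (2 : F) = 0) : G3 F := ⟨!![0,1,0;1,0,0;0,0,1], by rw [det_fin_three]; simp [neg1 c2]⟩
def xL (a : F) : G3 F := ⟨!![1,a,0;0,1,0;0,0,1], by rw [det_fin_three]; simp⟩

theorem kP_eq (c2 : (2 : F) = 0) (b : F) : kP c2 b = xP b * nP c2 := by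
  apply Subtype.ext
  show (!![1, 0, 0; 0, b, 1; 0, 1, 0] : M3 F) = !![1,0,0;0,1,b;0,0,1] * !![1,0,0;0,0,1;0,1,0]
  ext i j
  fin_cases i <;> fin_cases j <;> simp [Matrix.mul_apply, Fin.sum_univ_three]

theorem kL_eq (c2 : (2 : F) = 0) (b : F) : kL c2 b = xL b * nL c2 := by
  apply Subtype.ext
  show (!![b, 1, 0; 1, 0, 0; 0, 0, 1] : M3 F) = !![1,b,0;0,1,0;0,0,1] * !![0,1,0;1,0,0;0,0,1]
  ext i j
  fin_cases i <;> fin_cases j <;> simp [Matrix.mul_apply, Fin.sum_univ_three]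

variable [Fintype F] {V : Type} [AddCommGroup V] [Module (ZMod 2) V] [Module.Finite (ZMod 2) V]
  {ρ : Representation (ZMod 2) (G3 F) V}

theorem pull_P (hF : Fintype.card F = 4) {w : V}
    (hB : ∀ g ∈ BB F, ρ g w = w)
    (h2 : ∀ (n : G3 F) (x : F → G3 F), n.1 = !![1,0,0;0,0,1;0,1,0] → (∀ a, (x a).1 = !![1,0,0;0,1,a;0,0,1]) → w + ∑ a : F, ρ (x a * n) w = 0)
    [Fintype (G3 F ⧸ BB F)] [Fintype (G3 F ⧸ PP F)] (a : G3 F ⧸ PP F → ZMod 2) :
    pim (BB F) w hB (fun x => a (Subgroup.quotientMapOfLE BB_le_PP x)) = 0 := by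
  have c2 := two0' hF
  refine pim_pull BB_le_PP hB (kkP c2) (kkP_mem c2) (kkP_inj c2) (kkP_surj c2) ?_ a
  rw [Fintype.sum_option]
  show ρ 1 w + ∑ b : F, ρ (kP c2 b) w = 0
  rw [map_one]
  have := h2 (nP c2) xP rfl (fun _ => rfl)
  rw [← this]
  congr 1
  exact Finset.sum_congr rfl fun b _ => by rw [kP_eq c2 b]

theorem pull_L (hF : Fintype.card F = 4) {w : V}
    (hB : ∀ g ∈ BB F, ρ g w = w)
    (h1 : ∀ (n : G3 F) (x : F → G3 F), n.1 = !![0,1,0;1,0,0;0,0,1] → (∀ a, (x a).1 = !![1,a,0;0,1,0;0,0,1]) → w + ∑ a : F, ρ (x a * n) w = 0)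
    [Fintype (G3 F ⧸ BB F)] [Fintype (G3 F ⧸ LL F)] (a : G3 F ⧸ LL F → ZMod 2) :
    pim (BB F) w hB (fun x => a (Subgroup.quotientMapOfLE BB_le_LL x)) = 0 := by
  have c2 := two0' hF
  refine pim_pull BB_le_LL hB (kkL c2) (kkL_mem c2) (kkL_inj c2) (kkL_surj c2) ?_ a
  rw [Fintype.sum_option]
  show ρ 1 w + ∑ b : F, ρ (kL c2 b) w = 0
  rw [map_one]
  have := h1 (nL c2) xL rfl (fun _ => rfl)
  rw [← this]
  congr 1
  exact Finset.sum_congr rfl fun b _ => by rw [kL_eq c2 b]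

theorem range_pim {W : Submodule (ZMod 2) V} (hW : Simp ρ W) {w : V} (hw : w ∈ W) (hw0 : w ≠ 0)
    (hB : ∀ g ∈ BB F, ρ g w = w) [Fintype (G3 F ⧸ BB F)] : LinearMap.range (pim (BB F) w hB) = W := by
  classical
  have h1 : ∀ x, fl (BB F) w hB x ∈ W := fun x => by
    induction x using QuotientGroup.induction_on with
    | H g => exact hW.1 g w hw
  have h2 : LinearMap.range (pim (BB F) w hB) ≤ W := by
    rintro _ ⟨c, rfl⟩
    rw [pim_apply]
    exact W.sum_mem fun x _ => W.smul_mem _ (h1 x)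
  have h3 : Inv ρ (LinearMap.range (pim (BB F) w hB)) := by
    rintro g _ ⟨c, rfl⟩
    exact ⟨act (BB F) g c, pim_act hB g c⟩
  have h4 : w ∈ LinearMap.range (pim (BB F) w hB) := by
    refine ⟨Pi.single ((1 : G3 F) : G3 F ⧸ BB F) 1, ?_⟩
    rw [pim_apply, Finset.sum_eq_single ((1 : G3 F) : G3 F ⧸ BB F)]
    · rw [Pi.single_eq_same, one_smul, fl_mk, map_one]
      rfl
    · intro x _ hx
      rw [Pi.single_eq_of_ne hx, zero_smul]
    · intro h
      exact absurd (Finset.mem_univ _) h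
  rcases hW.2.2 _ h3 h2 with h | h
  · exfalso
    rw [h] at h4
    exact hw0 ((Submodule.mem_bot _).1 h4)
  · exact h

theorem finrank_prod' {M N : Type*} [AddCommGroup M] [Module (ZMod 2) M] [Module.Finite (ZMod 2) M]
    [AddCommGroup N] [Module (ZMod 2) N] [Module.Finite (ZMod 2) N] (p : Submodule (ZMod 2) M) (q : Submodule (ZMod 2) N) :
    Module.finrank (ZMod 2) (p.prod q) = Module.finrank (ZMod 2) p + Module.finrank (ZMod 2) q := by
  rw [← Module.finrank_prod]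
  exact LinearEquiv.finrank_eq
    { toFun := fun x => (⟨x.1.1, x.2.1⟩, ⟨x.1.2, x.2.2⟩)
      invFun := fun y => ⟨(y.1.1, y.2.1), ⟨y.1.2, y.2.2⟩⟩
      map_add' := fun _ _ => rfl
      map_smul' := fun _ _ => rfl
      left_inv := fun _ => rfl
      right_inv := fun _ => rfl }

theorem finrank_fun {X : Type} [Finite X] : Module.finrank (ZMod 2) (X → ZMod 2) = Nat.card X := by
  have := Fintype.ofFinite X
  rw [Module.finrank_pi, Nat.card_eq_fintype_card]

/-- the dimension of the fixed space of `g` on the Steinberg module -/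
theorem fx_dim (hF : Fintype.card F = 4) {W : Submodule (ZMod 2) V} (hW : Simp ρ W) {w : V} (hw : w ∈ W) (hw0 : w ≠ 0)
    (hB : ∀ g ∈ BB F, ρ g w = w)
    (h1 : ∀ (n : G3 F) (x : F → G3 F), n.1 = !![0,1,0;1,0,0;0,0,1] → (∀ a, (x a).1 = !![1,a,0;0,1,0;0,0,1]) → w + ∑ a : F, ρ (x a * n) w = 0)
    (h2 : ∀ (n : G3 F) (x : F → G3 F), n.1 = !![1,0,0;0,0,1;0,1,0] → (∀ a, (x a).1 = !![1,0,0;0,1,a;0,0,1]) → w + ∑ a : F, ρ (x a * n) w = 0)
    (hgen : PP F ⊔ LL F = ⊤) (hcB : Nat.card (G3 F ⧸ BB F) = 105) (hcP : Nat.card (G3 F ⧸ PP F) = 21)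
    (hcL : Nat.card (G3 F ⧸ LL F) = 21) (h64 : Module.finrank (ZMod 2) W = 64) {g : G3 F} {n : ℕ} (hn : Odd n)
    (hg : g ^ n = 1) :
    Module.finrank (ZMod 2) (fixF (BB F) g) + 1 =
      Module.finrank (ZMod 2) (fixF (PP F) g) + Module.finrank (ZMod 2) (fixF (LL F) g) +
        Module.finrank (ZMod 2) (fx ρ g W) := by
  have : Finite (G3 F ⧸ BB F) := Nat.finite_of_card_ne_zero (by rw [hcB]; norm_num)
  have : Finite (G3 F ⧸ PP F) := Nat.finite_of_card_ne_zero (by rw [hcP]; norm_num)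
  have : Finite (G3 F ⧸ LL F) := Nat.finite_of_card_ne_zero (by rw [hcL]; norm_num)
  have := Fintype.ofFinite (G3 F ⧸ BB F)
  have := Fintype.ofFinite (G3 F ⧸ PP F)
  have := Fintype.ofFinite (G3 F ⧸ LL F)
  have r := range_pim hW hw hw0 hB
  have k := ker_dl (F := F) BB_le_PP BB_le_LL hgen
  have k1 : Module.finrank (ZMod 2) (LinearMap.ker (dl (F := F) BB_le_PP BB_le_LL)) = 1 := by
    rw [k]
    apply finrank_span_singleton
    intro h
    have := congrFun (Prod.ext_iff.1 h).1 ((1 : G3 F) : G3 F ⧸ PP F)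
    exact one_ne_zero (this : (1 : ZMod 2) = 0)
  have e1 := LinearMap.finrank_range_add_finrank_ker (dl (F := F) BB_le_PP BB_le_LL)
  have e2 := LinearMap.finrank_range_add_finrank_ker (pim (BB F) w hB)
  rw [k1, Module.finrank_prod, finrank_fun, finrank_fun, hcP, hcL] at e1
  rw [r, h64, finrank_fun, hcB] at e2
  have hle : LinearMap.range (dl (F := F) BB_le_PP BB_le_LL) ≤ LinearMap.ker (pim (BB F) w hB) := by
    rintro _ ⟨⟨a, b⟩, rfl⟩
    have e : dl (F := F) BB_le_PP BB_le_LL (a, b) = (fun x => a (Subgroup.quotientMapOfLE BB_le_PP x)) +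
        (fun x => b (Subgroup.quotientMapOfLE BB_le_LL x)) := rfl
    rw [LinearMap.mem_ker, e, map_add, pull_P hF hB h2, pull_L hF hB h1, add_zero]
  have hex : LinearMap.range (dl (F := F) BB_le_PP BB_le_LL) = LinearMap.ker (pim (BB F) w hB) :=
    Submodule.eq_of_le_of_finrank_eq hle (by omega)
  have f1 := fixAdd (act (BB F) g) (ρ g) (pim (BB F) w hB) (pim_act hB g) hn (act_pow _ hg) (fixF (BB F) g)
    (mem_fixF _ g) (LinearMap.ker (ρ g - LinearMap.id)) (fun y => by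
      rw [LinearMap.mem_ker, LinearMap.sub_apply, LinearMap.id_apply, sub_eq_zero])
  have f2 := fixAdd ((act (PP F) g).prodMap (act (LL F) g)) (act (BB F) g) (dl (F := F) BB_le_PP BB_le_LL)
    (dl_act _ _ g) hn (by
      have e : ∀ m : ℕ, ((act (PP F) g).prodMap (act (LL F) g)) ^ m = ((act (PP F) g) ^ m).prodMap ((act (LL F) g) ^ m) := by
        intro m
        induction m with
        | zero => rfl
        | succ m ih => rw [pow_succ, ih, pow_succ, pow_succ]; rfl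
      rw [e, act_pow _ hg, act_pow _ hg]
      rfl) ((fixF (PP F) g).prod (fixF (LL F) g)) (fun x => by
      rw [Submodule.mem_prod, mem_fixF, mem_fixF]
      exact ⟨fun h => Prod.ext h.1 h.2, fun h => ⟨congrArg Prod.fst h, congrArg Prod.snd h⟩⟩) (fixF (BB F) g) (mem_fixF _ g)
  have f3 : (fixF (PP F) g).prod (fixF (LL F) g) ⊓ LinearMap.ker (dl (F := F) BB_le_PP BB_le_LL) =
      LinearMap.ker (dl (F := F) BB_le_PP BB_le_LL) := by
    apply inf_eq_right.2
    rw [k, Submodule.span_le, Set.singleton_subset_iff]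
    exact ⟨fun x => rfl, fun x => rfl⟩
  rw [f3, k1, hex] at f2
  have f4 : Module.finrank (ZMod 2) ((fixF (PP F) g).prod (fixF (LL F) g)) =
      Module.finrank (ZMod 2) (fixF (PP F) g) + Module.finrank (ZMod 2) (fixF (LL F) g) := finrank_prod' _ _
  rw [f4] at f2
  rw [r, inf_comm (LinearMap.ker (ρ g - LinearMap.id)) W] at f1
  have f5 : Module.finrank (ZMod 2) ↥(W ⊓ LinearMap.ker (ρ g - LinearMap.id)) = Module.finrank (ZMod 2) (fx ρ g W) := rfl
  rw [f5] at f1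
  omega

end Cfsg.Agent.H482.LF
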